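import Groth.Agent.KoszulLib.Ideal
import Groth.Agent.KoszulLib.SeqFibre
import Groth.Agent.KoszulLib.Kinds
import Groth.Agent.KoszulLib.FlatQuot
import Groth.Agent.KoszulLib.H1
import Groth.Agent.KoszulLib.H1Quasi
import Groth.Agent.FibCrit.Tools

/-!
# Koszul regularity of a flat quotient is decided on the fibre

For a flat finitely presented algebra `P` over `R` and a finitely generated ideal `J` with `P / J` flat over `R`,
the ideal `J` is Koszul-regular near `q` iff its image in the local ring of the fibre through `q` is generated by a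
sequence with acyclic Koszul complex.
-/

set_option autoImplicit false
set_option linter.style.haveILetI false
universe u

namespace Groth.Agent.KoszulFib

open TensorProduct Groth.Agent.Wiebe Groth.Agent.KoszulLib

/-- The ideal is generated by a finite sequence with acyclic Koszul complex. -/
def KReg {T : Type u} [CommRing T] (I : Ideal T) : Prop :=
  ∃ (n : ℕ) (f : Fin n → T), I = Ideal.span (Set.range f) ∧ Acyclic f

/-- In a local ring, the generators can be taken among given elements. -/
theorem KReg.exists_mem {P T : Type u} [CommRing P] [CommRing T] [IsLocalRing T] (φ : P →+* T) {J : Ideal P}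
    (h : KReg (J.map φ)) (hJ : J.map φ ≠ ⊤) :
    ∃ (n : ℕ) (f : Fin n → P), (∀ i, f i ∈ J) ∧ J.map φ = Ideal.span (Set.range (φ ∘ f)) ∧ Acyclic (φ ∘ f) := by
  obtain ⟨m, t, hs, hac⟩ := h
  haveI : IsLocalization.Away (1 : T) T :=
    IsLocalization.away_of_isUnit_of_bijective T isUnit_one Function.bijective_id
  have h1 : (1 : T) ∉ IsLocalRing.maximalIdeal T := fun hh =>
    (IsLocalRing.maximalIdeal.isMaximal T).ne_top ((Ideal.eq_top_iff_one _).mpr hh)
  have hk : KAt (J.map φ) (IsLocalRing.maximalIdeal T) := kAt_of_away h1 T hac (by simpa using hs)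
  obtain ⟨g, hg, e, h', hh', hk'⟩ := exists_kGen_exchange hk (IsLocalRing.le_maximalIdeal hJ)
    (Fin.elim0 : Fin 0 → T) (fun i => i.elim0) (fun _ _ i => i.elim0) (φ '' J)
    (by rintro _ ⟨x, hx, rfl⟩; exact Ideal.mem_map_of_mem _ hx) le_sup_right
  choose f hfJ hfe using hh'
  have hu : IsUnit g := IsLocalRing.notMem_maximalIdeal.mp hg
  obtain ⟨e1, e2⟩ := hk'.extend T (by simpa using hu)
  have happ : algebraMap T T ∘ Fin.append (Fin.elim0 : Fin 0 → T) h' =
      (φ ∘ f) ∘ Fin.cast (Nat.zero_add e) := by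
    funext i
    rw [Fin.elim0_append]
    simp only [Algebra.algebraMap_self, RingHom.id_apply, Function.comp_apply, hfe]
  rw [happ] at e1 e2
  refine ⟨e, f, hfJ, ?_, ?_⟩
  · rw [Set.range_comp] at e1
    simpa [(finCongr (Nat.zero_add e)).surjective.range_eq, Algebra.algebraMap_self, Ideal.map_id,
      show Fin.cast (Nat.zero_add e) = finCongr (Nat.zero_add e) from rfl, Function.comp_def] using e1
  · revert e2
    generalize φ ∘ f = w
    generalize Nat.zero_add e = he
    intro e2
    revert w
    generalize 0 + e = k at he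
    subst he
    intro w e2
    simpa using e2

section

variable (R : Type u) {P : Type u} [CommRing R] [CommRing P] [Algebra R P]

/-- The local ring of the fibre through `q`. -/
abbrev FT (q : PrimeSpectrum P) : Type u :=
  (q.asIdeal.comap (algebraMap R P)).ResidueField ⊗[R] Localization.AtPrime q.asIdeal

/-- The map to the local ring of the fibre. -/
noncomputable abbrev toFT (q : PrimeSpectrum P) : P →+* FT R q :=
  (Algebra.TensorProduct.includeRight :
      Localization.AtPrime q.asIdeal →ₐ[R] FT R q).toRingHom.comp (algebraMap P (Localization.AtPrime q.asIdeal))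

/-- The map from the local ring to the local ring of the fibre. -/
noncomputable abbrev locFT (q : PrimeSpectrum P) : Localization.AtPrime q.asIdeal →+* FT R q :=
  (Algebra.TensorProduct.includeRight : Localization.AtPrime q.asIdeal →ₐ[R] FT R q).toRingHom

/-- The property on the fibre. -/
def Fib (J : Ideal P) (q : PrimeSpectrum P) : Prop := KReg (J.map (toFT R q))

theorem locFT_surjective_and_ker (q : PrimeSpectrum P) :
    Function.Surjective (locFT R q) ∧ RingHom.ker (locFT R q) =
      (q.asIdeal.comap (algebraMap R P)).map (algebraMap R (Localization.AtPrime q.asIdeal)) := by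
  let p := q.asIdeal.comap (algebraMap R P)
  let S := Localization.AtPrime q.asIdeal
  let κ := p.ResidueField
  let π := Ideal.Quotient.mk (p.map (algebraMap R S))
  have hu0 : ∀ a : R, a ∉ p → IsUnit (algebraMap R S a) := by
    intro a ha
    rw [IsScalarTower.algebraMap_apply R P S]
    exact IsLocalization.map_units S (⟨algebraMap R P a, ha⟩ : q.asIdeal.primeCompl)
  let γ : R ⧸ p →+* S ⧸ p.map (algebraMap R S) := Ideal.Quotient.lift p (π.comp (algebraMap R S)) fun a ha =>
    Ideal.Quotient.eq_zero_iff_mem.mpr (Ideal.mem_map_of_mem _ ha)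
  have hu : ∀ x : nonZeroDivisors (R ⧸ p), IsUnit (γ x) := by
    rintro ⟨x, hx⟩
    obtain ⟨a, rfl⟩ := Ideal.Quotient.mk_surjective x
    exact (hu0 a fun h => nonZeroDivisors.ne_zero hx (Ideal.Quotient.eq_zero_iff_mem.mpr h)).map π
  let δ : κ →+* S ⧸ p.map (algebraMap R S) := IsLocalization.lift (M := nonZeroDivisors (R ⧸ p)) hu
  let δ' : κ →ₐ[R] S ⧸ p.map (algebraMap R S) :=
    { δ with
      commutes' := fun a => by
        show δ (algebraMap R κ a) = _
        rw [IsScalarTower.algebraMap_apply R (R ⧸ p) κ, IsLocalization.lift_eq]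
        rfl }
  let ψ : κ ⊗[R] S →ₐ[R] S ⧸ p.map (algebraMap R S) :=
    Algebra.TensorProduct.productMap δ' (Ideal.Quotient.mkₐ R (p.map (algebraMap R S)))
  refine ⟨fun z => ?_, le_antisymm (fun x hx => ?_) ?_⟩
  · show ∃ x : S, (1 : κ) ⊗ₜ[R] x = (z : κ ⊗[R] S)
    induction (z : κ ⊗[R] S) using TensorProduct.induction_on with
    | zero => exact ⟨0, tmul_zero _ _⟩
    | tmul k s =>
      obtain ⟨⟨a, ⟨b, hb⟩⟩, hk⟩ := IsLocalization.surj (nonZeroDivisors (R ⧸ p)) k
      obtain ⟨a, rfl⟩ := Ideal.Quotient.mk_surjective a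
      obtain ⟨b, rfl⟩ := Ideal.Quotient.mk_surjective b
      have hbp : b ∉ p := fun h => nonZeroDivisors.ne_zero hb (Ideal.Quotient.eq_zero_iff_mem.mpr h)
      obtain ⟨v, hv⟩ := (hu0 b hbp).exists_right_inv
      have hk' : b • k = algebraMap R κ a := by
        rw [Algebra.smul_def, mul_comm, IsScalarTower.algebraMap_apply R (R ⧸ p) κ,
          IsScalarTower.algebraMap_apply R (R ⧸ p) κ]
        exact hk
      refine ⟨a • (v * s), ?_⟩
      calc (1 : κ) ⊗ₜ[R] (a • (v * s)) = (algebraMap R κ a) ⊗ₜ[R] (v * s) := by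
            rw [← smul_tmul, Algebra.algebraMap_eq_smul_one]
        _ = k ⊗ₜ[R] (b • (v * s)) := by rw [← hk', smul_tmul]
        _ = k ⊗ₜ[R] s := by rw [Algebra.smul_def, ← mul_assoc, hv, one_mul]
    | add z w hz hw =>
      obtain ⟨x, hx⟩ := hz
      obtain ⟨y, hy⟩ := hw
      exact ⟨x + y, by rw [tmul_add, hx, hy]⟩
  · have h0 : (1 : κ) ⊗ₜ[R] x = 0 := hx
    have h := congrArg ψ h0
    rw [map_zero, Algebra.TensorProduct.productMap_apply_tmul, map_one, one_mul] at h
    exact Ideal.Quotient.eq_zero_iff_mem.mp h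
  · rw [Ideal.map_le_iff_le_comap]
    intro a ha
    show (1 : κ) ⊗ₜ[R] algebraMap R S a = 0
    rw [Algebra.algebraMap_eq_smul_one, ← smul_tmul, ← Algebra.algebraMap_eq_smul_one]
    have : algebraMap R κ a = 0 := Ideal.algebraMap_residueField_eq_zero.mpr ha
    rw [this, zero_tmul]

theorem FT.nontrivial (q : PrimeSpectrum P) : Nontrivial (FT R q) := by
  refine ⟨⟨1, 0, fun h => ?_⟩⟩
  have h1 : (1 : Localization.AtPrime q.asIdeal) ∈ RingHom.ker (locFT R q) := by
    rw [RingHom.mem_ker, map_one, h]
  rw [(locFT_surjective_and_ker R q).2] at h1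
  have hle : (q.asIdeal.comap (algebraMap R P)).map (algebraMap R (Localization.AtPrime q.asIdeal)) ≤
      IsLocalRing.maximalIdeal (Localization.AtPrime q.asIdeal) := by
    rw [Ideal.map_le_iff_le_comap]
    intro a ha
    rw [Ideal.mem_comap, IsScalarTower.algebraMap_apply R P (Localization.AtPrime q.asIdeal)]
    exact (IsLocalization.AtPrime.to_map_mem_maximal_iff _ q.asIdeal _).mpr ha
  exact (IsLocalRing.maximalIdeal.isMaximal (Localization.AtPrime q.asIdeal)).ne_top
    ((Ideal.eq_top_iff_one _).mpr (hle h1))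

instance FT.isLocalRing (q : PrimeSpectrum P) : IsLocalRing (FT R q) :=
  haveI := FT.nontrivial R q
  IsLocalRing.of_surjective' _ (locFT_surjective_and_ker R q).1

/-- The identification with the quotient of the local ring. -/
noncomputable def quotEquiv (q : PrimeSpectrum P) :
    (Localization.AtPrime q.asIdeal ⧸
        (q.asIdeal.comap (algebraMap R P)).map (algebraMap R (Localization.AtPrime q.asIdeal))) ≃+* FT R q :=
  (Ideal.quotEquivOfEq (locFT_surjective_and_ker R q).2.symm).trans
    (RingHom.quotientKerEquivOfSurjective (locFT_surjective_and_ker R q).1)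

theorem quotEquiv_mk (q : PrimeSpectrum P) (x : Localization.AtPrime q.asIdeal) :
    quotEquiv R q (Ideal.Quotient.mk _ x) = locFT R q x := by
  rw [quotEquiv, RingEquiv.trans_apply, Ideal.quotEquivOfEq_mk]
  exact RingHom.quotientKerEquivOfSurjective_apply_mk _ _

instance FT.isNoetherianRing [Algebra.FiniteType R P] (q : PrimeSpectrum P) : IsNoetherianRing (FT R q) :=
  haveI := isNoetherianRing_fibre (S' := Localization.AtPrime q.asIdeal) q.asIdeal
    (q.asIdeal.comap (algebraMap R P)) rfl
  isNoetherianRing_of_ringEquiv _ (quotEquiv R q)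

theorem toFT_mem_maximal (q : PrimeSpectrum P) {x : P} (hx : x ∈ q.asIdeal) :
    toFT R q x ∈ IsLocalRing.maximalIdeal (FT R q) := by
  haveI : IsLocalHom (locFT R q) := IsLocalHom.of_surjective _ (locFT_surjective_and_ker R q).1
  exact map_nonunit (locFT R q) _ ((IsLocalization.AtPrime.to_map_mem_maximal_iff _ q.asIdeal _).mpr hx)

theorem map_toFT_ne_top (q : PrimeSpectrum P) {J : Ideal P} (hJq : J ≤ q.asIdeal) : J.map (toFT R q) ≠ ⊤ :=
  ne_top_of_le_ne_top (IsLocalRing.maximalIdeal.isMaximal (FT R q)).ne_top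
    (Ideal.map_le_iff_le_comap.mpr fun _ hx => toFT_mem_maximal R q (hJq hx))

variable {R}

/-- Koszul regularity near `q` gives the property on the fibre. -/
theorem fib_of_kAt [Algebra.FiniteType R P] [Module.Flat R P] {J : Ideal P} [Module.Flat R (P ⧸ J)]
    (q : PrimeSpectrum P) (hJq : J ≤ q.asIdeal) (h : KAt J q.asIdeal) : Fib R J q := by
  obtain ⟨g, hg, n, t, hk⟩ := h
  let S := Localization.AtPrime q.asIdeal
  let κ := (q.asIdeal.comap (algebraMap R P)).ResidueField
  obtain ⟨hspan, hac⟩ := hk.extend S (IsLocalization.map_units S (⟨g, hg⟩ : q.asIdeal.primeCompl))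
  haveI : Module.Flat R (S ⧸ Ideal.span (Set.range fun i => algebraMap P S (t i))) :=
    flat_base_quot (A := R) (B := P) (C := S) J hspan.symm
  have h1 : CAlgX.IsH1Regular (fun i => (1 : κ) ⊗ₜ[R] algebraMap P S (t i)) :=
    h1_baseChange (R := S) (A := R) κ (isH1Regular_of_acyclic hac)
  have hreg := isWeaklyRegular_of_h1 (R := FT R q) (f := fun i => (1 : κ) ⊗ₜ[R] algebraMap P S (t i))
    (fun i => by
      rw [IsLocalRing.jacobson_eq_maximalIdeal ⊥ bot_ne_top]
      exact toFT_mem_maximal R q (hJq (hk.1 i))) h1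
  refine ⟨n, toFT R q ∘ t, ?_, acyclic_of_isWeaklyRegular' hreg⟩
  calc J.map (toFT R q) = (J.map (algebraMap P S)).map (locFT R q) := (Ideal.map_map _ _).symm
    _ = Ideal.span (Set.range (toFT R q ∘ t)) := by
      rw [hspan, Ideal.map_span, ← Set.range_comp]
      rfl

set_option backward.isDefEq.respectTransparency false in
/-- A flat quotient meets an extended ideal in the product. -/
theorem inf_le_smul_of_flat {S : Type u} [CommRing S] [Algebra R S] (K : Ideal S) [Module.Flat R (S ⧸ K)]
    (p : Ideal R) : p.map (algebraMap R S) ⊓ K ≤ p.map (algebraMap R S) * K := by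
  intro y hy
  obtain ⟨hy1, hy2⟩ := hy
  obtain ⟨n, c, a, hy3⟩ := Submodule.mem_span_set'.mp
    (show y ∈ Submodule.span S (algebraMap R S '' p) from hy1)
  choose r hr hre using fun i => (a i).2
  have hrel : ∑ i, r i • Ideal.Quotient.mk K (c i) = 0 := by
    rw [← (Ideal.Quotient.eq_zero_iff_mem.mpr hy2 : Ideal.Quotient.mk K y = 0), ← hy3, map_sum]
    refine Finset.sum_congr rfl fun i _ => ?_
    rw [smul_eq_mul, map_mul, mul_comm, ← hre, Algebra.smul_def, ← Ideal.Quotient.algebraMap_eq,
      ← IsScalarTower.algebraMap_apply]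
  obtain ⟨k, b, z, hbz, hb0⟩ := Module.Flat.isTrivialRelation_of_sum_smul_eq_zero (R := R) (f := r)
    (x := fun i => Ideal.Quotient.mk K (c i)) (by
      refine Eq.trans (Finset.sum_congr rfl fun i _ => ?_) hrel
      simp only [Algebra.smul_def])
  choose w hw using fun j => Ideal.Quotient.mk_surjective (z j)
  have key : y = ∑ i, algebraMap R S (r i) * (c i - ∑ j, b i j • w j) := by
    have h2 : ∑ i, algebraMap R S (r i) * ∑ j, b i j • w j = 0 := by
      simp only [Finset.mul_sum]
      rw [Finset.sum_comm]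
      refine Finset.sum_eq_zero fun j _ => ?_
      simp only [Algebra.smul_def, ← mul_assoc, ← map_mul, ← Finset.sum_mul, ← map_sum, hb0 j, map_zero,
        zero_mul]
    simp only [mul_sub, Finset.sum_sub_distrib, h2, sub_zero]
    rw [← hy3]
    exact Finset.sum_congr rfl fun i _ => by rw [smul_eq_mul, mul_comm, hre]
  rw [key]
  refine sum_mem fun i _ => Ideal.mul_mem_mul (Ideal.mem_map_of_mem _ (hr i))
    (Ideal.Quotient.eq_zero_iff_mem.mp ?_)
  rw [map_sub, map_sum, show Ideal.Quotient.mk K (c i) = _ from hbz i, sub_eq_zero]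
  exact Finset.sum_congr rfl fun j _ => by
    rw [← hw j, Algebra.smul_def, Algebra.smul_def, map_mul, ← Ideal.Quotient.algebraMap_eq,
      ← IsScalarTower.algebraMap_apply]

/-- Flatness modulo an ideal of the base, transported along an isomorphism. -/
theorem flat_quot_of_equiv (p : Ideal R) {T M : Type u} [CommRing T] [Algebra R T] [Module.Flat R T] [CommRing M]
    [Algebra R M] [Algebra (R ⧸ p) M] [IsScalarTower R (R ⧸ p) M] (e : M ≃ₐ[R] T ⧸ p.map (algebraMap R T)) :
    Module.Flat (R ⧸ p) M := by
  let σ : R ⧸ p →+* T ⧸ p.map (algebraMap R T) :=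
    e.toRingEquiv.toRingHom.comp (algebraMap (R ⧸ p) M)
  letI : Algebra (R ⧸ p) (T ⧸ p.map (algebraMap R T)) := σ.toAlgebra
  haveI : IsScalarTower R (R ⧸ p) (T ⧸ p.map (algebraMap R T)) := IsScalarTower.of_algebraMap_eq fun a => by
    show algebraMap R _ a = e (algebraMap (R ⧸ p) M (algebraMap R (R ⧸ p) a))
    rw [← IsScalarTower.algebraMap_apply, AlgEquiv.commutes]
  haveI : Module.Flat (R ⧸ p) (T ⧸ p.map (algebraMap R T)) := flat_quot_quot (A := R) (B := T) p rfl
  exact Module.Flat.of_linearEquiv
    (e.toLinearEquiv.extendScalarsOfSurjective (S := R ⧸ p) Ideal.Quotient.mk_surjective)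

set_option backward.isDefEq.respectTransparency false in
/-- The property on the fibre gives Koszul regularity near `q`. -/
theorem kAt_of_fib [Algebra.FinitePresentation R P] [Module.Flat R P] {J : Ideal P} [Module.Flat R (P ⧸ J)]
    (hJ : J.FG) (q : PrimeSpectrum P) (hJq : J ≤ q.asIdeal) (h : Fib R J q) : KAt J q.asIdeal := by
  let S := Localization.AtPrime q.asIdeal
  let p := q.asIdeal.comap (algebraMap R P)
  let K := J.map (algebraMap P S)
  haveI : Module.Flat R S := Module.Flat.trans R P S
  haveI : Module.Flat R (S ⧸ K) := flat_base_quot (A := R) (B := P) (C := S) J rfl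
  obtain ⟨n, f, hfJ, hspan, hac⟩ := h.exists_mem (toFT R q) (map_toFT_ne_top R q hJq)
  let fS : Fin n → S := fun i => algebraMap P S (f i)
  have hfK : Ideal.span (Set.range fS) ≤ K := by
    rw [Ideal.span_le]
    rintro _ ⟨i, rfl⟩
    exact Ideal.mem_map_of_mem _ (hfJ i)
  have hpm : p.map (algebraMap R S) ≤ IsLocalRing.maximalIdeal S := by
    rw [Ideal.map_le_iff_le_comap]
    intro a ha
    rw [Ideal.mem_comap, IsScalarTower.algebraMap_apply R P S]
    exact (IsLocalization.AtPrime.to_map_mem_maximal_iff S q.asIdeal _).mpr ha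
  -- generation
  have hKf : K = Ideal.span (Set.range fS) := by
    refine le_antisymm (Submodule.le_of_le_smul_of_le_jacobson_bot (hJ.map _)
      (IsLocalRing.jacobson_eq_maximalIdeal (⊥ : Ideal S) bot_ne_top ▸ hpm) fun x hx => ?_) hfK
    have hx1 : locFT R q x ∈ (Ideal.span (Set.range fS)).map (locFT R q) := by
      rw [Ideal.map_span, ← Set.range_comp, show locFT R q ∘ fS = toFT R q ∘ f from rfl, ← hspan,
        show J.map (toFT R q) = K.map (locFT R q) from (Ideal.map_map _ _).symm]
      exact Ideal.mem_map_of_mem _ hx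
    obtain ⟨a, ha, hax⟩ := (Ideal.mem_map_iff_of_surjective _ (locFT_surjective_and_ker R q).1).mp hx1
    have hk : x - a ∈ p.map (algebraMap R S) := by
      rw [← (locFT_surjective_and_ker R q).2, RingHom.mem_ker, map_sub, hax, sub_self]
    rw [← add_sub_cancel a x]
    exact Submodule.add_mem_sup ha (inf_le_smul_of_flat K p ⟨hk, sub_mem hx (hfK ha)⟩)
  -- quasi-regularity modulo `p`
  have hq1 : CAlgX.IsQuasiRegular (toFT R q ∘ f) := isQuasiRegular_of_h1 (isH1Regular_of_acyclic hac)
  have hq2 : CAlgX.IsQuasiRegular fun i => Ideal.Quotient.mk (p.map (algebraMap R S)) (algebraMap P S (f i)) := by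
    convert isQuasiRegular_map_equiv (quotEquiv R q).symm hq1 using 1
    funext i
    exact ((quotEquiv R q).symm_apply_eq.mpr (quotEquiv_mk R q _).symm).symm
  -- flatness modulo `p`
  have hfl : Module.Flat (R ⧸ p) ((S ⧸ p.map (algebraMap R S)) ⧸
      Ideal.span (Set.range fun i => Ideal.Quotient.mk (p.map (algebraMap R S)) (algebraMap P S (f i)))) := by
    let J' := p.map (algebraMap R (S ⧸ K))
    have e1 : Ideal.span (Set.range fun i => Ideal.Quotient.mk (p.map (algebraMap R S)) (algebraMap P S (f i))) =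
        K.map (Ideal.Quotient.mkₐ R (p.map (algebraMap R S))) := by
      rw [hKf, Ideal.map_span, ← Set.range_comp]
      rfl
    have e2 : (p.map (algebraMap R S)).map (Ideal.Quotient.mkₐ R K) = J' := by
      show Ideal.map (Ideal.Quotient.mk K) _ = _
      rw [Ideal.map_map]
      rfl
    let e : ((S ⧸ p.map (algebraMap R S)) ⧸
        Ideal.span (Set.range fun i => Ideal.Quotient.mk (p.map (algebraMap R S)) (algebraMap P S (f i)))) ≃ₐ[R]
          (S ⧸ K) ⧸ J' :=
      ((Ideal.quotientEquivAlgOfEq R e1).trans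
        (DoubleQuot.quotQuotEquivCommₐ R (p.map (algebraMap R S)) K)).trans (Ideal.quotientEquivAlgOfEq R e2)
    exact flat_quot_of_equiv (T := S ⧸ K) (M := (S ⧸ p.map (algebraMap R S)) ⧸
      Ideal.span (Set.range fun i => Ideal.Quotient.mk (p.map (algebraMap R S)) (algebraMap P S (f i)))) p e
  have hseq := seqAt_of_quasi_mod q S p le_rfl f (fun i => hJq (hfJ i)) hq2 hfl
  obtain ⟨t, htq, ht⟩ := exists_away_of_seqAt (List.ofFn f) q hseq
  have hKf' : J.map (algebraMap P S) ≤ (Ideal.span (Set.range f)).map (algebraMap P S) := by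
    rw [Ideal.map_span, ← Set.range_comp]
    exact hKf.le
  obtain ⟨b, hbq, hb⟩ := exists_mul_mem_of_map_le hJ q.asIdeal S hKf'
  refine ⟨t * b, fun hm => (q.isPrime.mem_or_mem hm).elim htq hbq, n, f,
    KGen.of (Localization.Away (t * b)) hfJ (le_antisymm ?_ ?_) (acyclic_of_local fun M _ => ?_)⟩
  · rw [Ideal.map_le_iff_le_comap]
    intro x hx
    have hu : IsUnit (algebraMap P (Localization.Away (t * b)) b) :=
      isUnit_of_mul_isUnit_right (x := algebraMap P (Localization.Away (t * b)) t)
        (by rw [← map_mul]; exact IsLocalization.Away.algebraMap_isUnit _)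
    rw [Ideal.mem_comap, ← Ideal.unit_mul_mem_iff_mem _ hu, ← map_mul, Set.range_comp, ← Ideal.map_span]
    exact Ideal.mem_map_of_mem _ (hb x hx)
  · rw [Ideal.span_le]
    rintro _ ⟨i, rfl⟩
    exact Ideal.mem_map_of_mem _ (hfJ i)
  · let A := Localization.Away (t * b)
    let z : PrimeSpectrum P := ⟨M.comap (algebraMap P A), inferInstance⟩
    have htz : t ∉ z.asIdeal := fun hm => by
      refine (Ideal.IsMaximal.ne_top (I := M) inferInstance) (Ideal.eq_top_of_isUnit_mem M
        (show algebraMap P A (t * b) ∈ M from ?_) (IsLocalization.Away.algebraMap_isUnit _))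
      rw [map_mul]
      exact Ideal.mul_mem_right _ _ hm
    haveI : IsLocalization.AtPrime (Localization.AtPrime M) z.asIdeal :=
      IsLocalization.isLocalization_isLocalization_atPrime_isLocalization (Submonoid.powers (t * b))
        (Localization.AtPrime M) M
    have hw := ((InjFibre.seqAt_iff (List.ofFn f) z (Localization.AtPrime M)).mp (ht z htz)).1
    rw [List.map_ofFn] at hw
    have hc : algebraMap A (Localization.AtPrime M) ∘ algebraMap P A ∘ f =
        algebraMap P (Localization.AtPrime M) ∘ f := by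
      funext i
      exact (IsScalarTower.algebraMap_apply P A _ _).symm
    show Acyclic (algebraMap A (Localization.AtPrime M) ∘ algebraMap P A ∘ f)
    rw [hc]
    exact acyclic_of_isWeaklyRegular' hw

/-- Koszul regularity of a flat quotient is a property of the fibre. -/
theorem kAt_iff_fib [Algebra.FinitePresentation R P] [Module.Flat R P] {J : Ideal P} [Module.Flat R (P ⧸ J)]
    (hJ : J.FG) (q : PrimeSpectrum P) (hJq : J ≤ q.asIdeal) : KAt J q.asIdeal ↔ Fib R J q :=
  ⟨fib_of_kAt q hJq, kAt_of_fib hJ q hJq⟩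

end

end Groth.Agent.KoszulFib
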