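import Groth.Agent.KoszulFib.BaseChange
import Groth.Agent.KoszulLib.SchPres
import Groth.Agent.KoszulLib.SchLCI
import Mathlib.AlgebraicGeometry.Morphisms.Flat
import Mathlib.AlgebraicGeometry.Morphisms.FinitePresentation
import Mathlib.RingTheory.IsTensorProduct

/-!
# The Koszul locus of a morphism of flat schemes over a base
-/

set_option autoImplicit false
set_option linter.style.haveILetI false
universe u

namespace Groth.Agent.KoszulFib

open TensorProduct CategoryTheory CategoryTheory.Limits AlgebraicGeometry Groth.Agent.KoszulLib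

section Ring

variable {R R' A A' B B' : Type u} [CommRing R] [CommRing R'] [CommRing A] [CommRing A'] [CommRing B] [CommRing B']
  [Algebra R R'] [Algebra R A] [Algebra R' A'] [Algebra A A'] [Algebra R A'] [IsScalarTower R R' A']
  [IsScalarTower R A A']
  [Algebra A B] [Algebra R B] [IsScalarTower R A B] [Algebra A' B'] [Algebra R' B'] [IsScalarTower R' A' B']
  [Algebra B B'] [Algebra R B'] [IsScalarTower R R' B'] [IsScalarTower R B B']
  [Algebra A B'] [IsScalarTower A B B'] [IsScalarTower A A' B']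

/-- The kernel of a presentation after base change is the extended kernel. -/
theorem ker_eq_map {P P' : Type u} [CommRing P] [CommRing P'] [Algebra R P] [Algebra R' P'] [Algebra P P'] [Algebra R P']
    [IsScalarTower R R' P'] [IsScalarTower R P P'] [Algebra.IsPushout R R' P P'] [Algebra.IsPushout R R' B B']
    (π : P →ₐ[R] B) (hπ : Function.Surjective π) (π' : P' →ₐ[R'] B')
    (h : ∀ y, π' (algebraMap P P' y) = algebraMap B B' (π y)) :
    Function.Surjective π' ∧ RingHom.ker π'.toRingHom = (RingHom.ker π.toRingHom).map (algebraMap P P') := by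
  let eP := Algebra.IsPushout.equiv R R' P P'
  let eB := Algebra.IsPushout.equiv R R' B B'
  let φ : R' ⊗[R] P →ₐ[R'] R' ⊗[R] B := Algebra.TensorProduct.map (AlgHom.id R' R') π
  have hc : ∀ z, π' (eP z) = eB (φ z) := fun z => by
    induction z with
    | zero => simp
    | tmul a y =>
      simp only [φ, eP, eB, Algebra.TensorProduct.map_tmul, AlgHom.coe_id, id_eq, Algebra.IsPushout.equiv_tmul,
        map_mul, AlgHom.commutes, h]
    | add a b ha hb => rw [map_add, map_add, ha, hb, map_add, map_add]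
  have hφ : Function.Surjective φ := fun z => by
    obtain ⟨w, hw⟩ := LinearMap.lTensor_surjective (R := R) R' (g := π.toLinearMap) hπ z
    exact ⟨w, hw⟩
  refine ⟨fun z => ?_, le_antisymm (fun x hx => ?_) ?_⟩
  · obtain ⟨w, hw⟩ := hφ (eB.symm z)
    exact ⟨eP w, by rw [hc, hw, AlgEquiv.apply_symm_apply]⟩
  · obtain ⟨z, rfl⟩ := eP.surjective x
    rw [RingHom.mem_ker] at hx
    have hz : z ∈ RingHom.ker (Algebra.TensorProduct.map (AlgHom.id R R') π) := by
      rw [RingHom.mem_ker]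
      refine eB.injective ?_
      rw [map_zero, ← hx]
      exact (hc z).symm
    rw [Algebra.TensorProduct.lTensor_ker π hπ] at hz
    have h2 := Ideal.mem_map_of_mem eP.toRingEquiv.toRingHom hz
    erw [Ideal.map_map] at h2
    have he : eP.toRingEquiv.toRingHom.comp
        (Algebra.TensorProduct.includeRight : P →ₐ[R] R' ⊗[R] P).toRingHom = algebraMap P P' := by
      ext y
      show eP ((1 : R') ⊗ₜ[R] y) = algebraMap P P' y
      rw [Algebra.IsPushout.equiv_tmul, map_one, one_mul]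
    rw [← he]
    exact h2
  · rw [Ideal.map_le_iff_le_comap]
    intro y hy
    rw [Ideal.mem_comap, RingHom.mem_ker]
    show π' (algebraMap P P' y) = 0
    rw [h, show π y = 0 from hy, map_zero]

variable [Algebra.IsPushout R R' A A'] [Algebra.IsPushout R R' B B'] [Module.Flat R A] [Module.Flat R B]
  [Algebra.FinitePresentation R A] [Algebra.FinitePresentation R B]

include R R'

/-- On charts: the presentation after base change is Koszul-regular iff the original one is. -/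
theorem kAt_pres_baseChange {n : ℕ} (π : MvPolynomial (Fin n) A →ₐ[A] B) (hπ : Function.Surjective π) :
    ∃ π' : MvPolynomial (Fin n) A' →ₐ[A'] B', Function.Surjective π' ∧ ∀ Q : PrimeSpectrum B',
      (KAt (RingHom.ker π'.toRingHom) (Q.asIdeal.comap π'.toRingHom) ↔
        KAt (RingHom.ker π.toRingHom) ((Q.asIdeal.comap (algebraMap B B')).comap π.toRingHom)) := by
  let P := MvPolynomial (Fin n) A
  let P' := MvPolynomial (Fin n) A'
  let π' : P' →ₐ[A'] B' := MvPolynomial.aeval fun i => algebraMap B B' (π (MvPolynomial.X i))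
  letI : Algebra P P' := MvPolynomial.algebraMvPolynomial
  have hcomm : ∀ y : P, π' (algebraMap P P' y) = algebraMap B B' (π y) := fun y => by
    have : (π'.toRingHom.comp (algebraMap P P')) = (algebraMap B B').comp π.toRingHom := by
      refine MvPolynomial.ringHom_ext (fun a => ?_) (fun i => ?_)
      · show π' (algebraMap P P' (MvPolynomial.C a)) = algebraMap B B' (π (MvPolynomial.C a))
        rw [MvPolynomial.algebraMap_def, MvPolynomial.map_C, MvPolynomial.algHom_C, MvPolynomial.algHom_C,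
          ← IsScalarTower.algebraMap_apply A A' B', ← IsScalarTower.algebraMap_apply A B B']
      · show π' (algebraMap P P' (MvPolynomial.X i)) = algebraMap B B' (π (MvPolynomial.X i))
        rw [MvPolynomial.algebraMap_def, MvPolynomial.map_X]
        exact MvPolynomial.aeval_X _ i
    exact RingHom.congr_fun this y
  haveI : IsScalarTower R P P' := IsScalarTower.of_algebraMap_eq fun r => by
    rw [IsScalarTower.algebraMap_apply R A P, MvPolynomial.algebraMap_eq, MvPolynomial.algebraMap_def,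
      MvPolynomial.map_C, IsScalarTower.algebraMap_apply R A' P', MvPolynomial.algebraMap_eq,
      ← IsScalarTower.algebraMap_apply R A A']
  haveI : IsScalarTower R R' P' := IsScalarTower.of_algebraMap_eq fun r => by
    rw [IsScalarTower.algebraMap_apply R A' P', IsScalarTower.algebraMap_apply R' A' P',
      ← IsScalarTower.algebraMap_apply R R' A']
  haveI : Algebra.IsPushout R R' P P' := by
    haveI : Algebra.IsPushout A (MvPolynomial (Fin n) A) A' (MvPolynomial (Fin n) A') := inferInstance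
    haveI h1 : Algebra.IsPushout R A R' A' := Algebra.IsPushout.symm inferInstance
    exact Algebra.IsPushout.symm ((Algebra.IsPushout.comp_iff R R' A' (S := A) (T := P) (T' := P')).mpr inferInstance)
  haveI : Module.Flat R P := Module.Flat.trans R A P
  haveI : Algebra.FinitePresentation R P := Algebra.FinitePresentation.trans R A P
  obtain ⟨hπ', hker⟩ := ker_eq_map (π.restrictScalars R) hπ (π'.restrictScalars R') hcomm
  refine ⟨π', hπ', fun Q => ?_⟩
  have hJ : (RingHom.ker π.toRingHom).FG :=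
    Algebra.FinitePresentation.ker_fG_of_surjective (π.restrictScalars R) hπ
  haveI : Module.Flat R (P ⧸ RingHom.ker π.toRingHom) :=
    Module.Flat.of_linearEquiv ((Ideal.quotientKerAlgEquivOfSurjective (f := π.restrictScalars R) hπ).toLinearEquiv)
  haveI : Module.Flat R' (P' ⧸ (RingHom.ker π.toRingHom).map (algebraMap P P')) := by
    haveI : Module.Flat R' B' :=
      Module.Flat.of_linearEquiv (Algebra.IsPushout.equiv R R' B B').symm.toLinearEquiv
    exact Module.Flat.of_linearEquiv ((Ideal.quotientEquivAlgOfEq R' hker.symm).trans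
      (Ideal.quotientKerAlgEquivOfSurjective (f := π'.restrictScalars R') hπ')).toLinearEquiv
  have hk : RingHom.ker π'.toRingHom = (RingHom.ker π.toRingHom).map (algebraMap P P') := hker
  have hq : (Q.asIdeal.comap π'.toRingHom).comap (algebraMap P P') =
      (Q.asIdeal.comap (algebraMap B B')).comap π.toRingHom := by
    ext y
    simp only [Ideal.mem_comap]
    exact Iff.of_eq (congrArg (· ∈ Q.asIdeal) (hcomm y))
  rw [hk, ← hq]
  exact kAt_baseChange_iff (R := R) (R' := R') hJ ⟨Q.asIdeal.comap π'.toRingHom, inferInstance⟩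

end Ring

section Scheme

variable {X Y S : Scheme.{u}} (f : X ⟶ Y) (g : Y ⟶ S)

/-- A point has an affine neighbourhood with a local complete intersection chart iff the morphism is Koszul there. -/
theorem lciNear_iff_isKoszulAt (x : X) :
    (∃ (U : X.Opens) (V : Y.Opens) (_ : IsAffineOpen U) (_ : IsAffineOpen V) (hUV : U ≤ f ⁻¹ᵁ V), x ∈ U ∧
      letI := (f.appLE V U hUV).hom.toAlgebra
      LCI.IsLCI Γ(Y, V) Γ(X, U)) ↔ Synt.IsKoszulAt f x := by
  constructor
  · rintro ⟨U, V, hU, hV, hUV, hx, h⟩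
    exact isKoszulAt_of_isLCI f ⟨V, hV⟩ ⟨U, hU⟩ hUV h x hx
  · intro h
    obtain ⟨O, P, i, π, hxO, hft, hreg, hsm, hfac⟩ := h
    obtain ⟨_, ⟨V, hV, rfl⟩, hxV, -⟩ :=
      Y.isBasis_affineOpens.exists_subset_of_mem_open (Set.mem_univ (f x)) isOpen_univ
    obtain ⟨_, ⟨U, hU, rfl⟩, hxU, hUV⟩ :=
      X.isBasis_affineOpens.exists_subset_of_mem_open (show x ∈ f ⁻¹ᵁ V ⊓ O from ⟨hxV, hxO⟩) (f ⁻¹ᵁ V ⊓ O).isOpen
    exact ⟨U, V, hU, hV, fun y hy => (hUV hy).1, hxU, isLCI_of_isKoszulAt f ⟨V, hV⟩ ⟨U, hU⟩ _ fun y hy =>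
      ⟨O, P, i, π, (hUV hy).2, hft, hreg, hsm, hfac⟩⟩

variable [Flat (f ≫ g)] [LocallyOfFinitePresentation (f ≫ g)] [Flat g] [LocallyOfFinitePresentation g]

/-- Being Koszul is insensitive to base change, for morphisms of flat schemes of finite presentation. -/
theorem isKoszulAt_baseChange_iff {X' Y' S' : Scheme.{u}} {h : S' ⟶ S} {gY : Y' ⟶ Y} {g' : Y' ⟶ S'}
    (hY : IsPullback gY g' g h) {gX : X' ⟶ X} {f' : X' ⟶ Y'} (hX : IsPullback gX (f' ≫ g') (f ≫ g) h)
    (w : gX ≫ f = f' ≫ gY) (x' : X') : Synt.IsKoszulAt f' x' ↔ Synt.IsKoszulAt f (gX x') := by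
  obtain ⟨_, ⟨W, hW, rfl⟩, hsW, -⟩ :=
    S.isBasis_affineOpens.exists_subset_of_mem_open (Set.mem_univ (g (f (gX x')))) isOpen_univ
  obtain ⟨_, ⟨V, hV, rfl⟩, hyV, hVW⟩ :=
    Y.isBasis_affineOpens.exists_subset_of_mem_open (show f (gX x') ∈ g ⁻¹ᵁ W from hsW) (g ⁻¹ᵁ W).isOpen
  obtain ⟨_, ⟨U, hU, rfl⟩, hxU, hUV⟩ :=
    X.isBasis_affineOpens.exists_subset_of_mem_open (show gX x' ∈ f ⁻¹ᵁ V from hyV) (f ⁻¹ᵁ V).isOpen
  have hyy : gY (f' x') = f (gX x') := by
    rw [← Scheme.Hom.comp_apply, ← w, Scheme.Hom.comp_apply]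
  have hs' : g' (f' x') ∈ h ⁻¹ᵁ W := by
    show h (g' (f' x')) ∈ W
    rw [← Scheme.Hom.comp_apply, ← hY.w, Scheme.Hom.comp_apply, hyy]
    exact hsW
  obtain ⟨_, ⟨W', hW', rfl⟩, hsW', hWW⟩ :=
    S'.isBasis_affineOpens.exists_subset_of_mem_open hs' (h ⁻¹ᵁ W).isOpen
  have hUW : U ≤ (f ≫ g) ⁻¹ᵁ W := fun y hy => hVW (hUV hy)
  let V' : Y'.Opens := gY ⁻¹ᵁ V ⊓ g' ⁻¹ᵁ W'
  let U' : X'.Opens := gX ⁻¹ᵁ U ⊓ (f' ≫ g') ⁻¹ᵁ W'
  haveI : IsAffine _ := hW
  haveI : IsAffine _ := hW'
  haveI : IsAffine _ := hV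
  haveI : IsAffine _ := hU
  have hV' : IsAffineOpen V' :=
    .of_isIso (Scheme.Hom.isPullback_resLE hY hWW hVW (show V' = _ from rfl)).isoPullback.hom
  have hU' : IsAffineOpen U' :=
    .of_isIso (Scheme.Hom.isPullback_resLE hX hWW hUW (show U' = _ from rfl)).isoPullback.hom
  have hx' : x' ∈ U' := ⟨hxU, hsW'⟩
  have eUV : U' ≤ f' ⁻¹ᵁ V' := fun y hy => ⟨by
    show gY (f' y) ∈ V
    rw [← Scheme.Hom.comp_apply, ← w, Scheme.Hom.comp_apply]
    exact hUV hy.1, hy.2⟩
  have hA := (isIso_pushoutSection_iff hY hWW hVW (show V' = _ from rfl)).mp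
    (isIso_pushoutSection_of_isAffineOpen hY hWW hVW (show V' = _ from rfl) hW hW' hV)
  have hB := (isIso_pushoutSection_iff hX hWW hUW (show U' = _ from rfl)).mp
    (isIso_pushoutSection_of_isAffineOpen hX hWW hUW (show U' = _ from rfl) hW hW' hU)
  letI : Algebra Γ(S, W) Γ(S', W') := (h.appLE W W' hWW).hom.toAlgebra
  letI : Algebra Γ(S, W) Γ(Y, V) := (g.appLE W V hVW).hom.toAlgebra
  letI : Algebra Γ(Y, V) Γ(X, U) := (f.appLE V U hUV).hom.toAlgebra
  letI : Algebra Γ(S, W) Γ(X, U) := ((f ≫ g).appLE W U hUW).hom.toAlgebra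
  letI : Algebra Γ(S', W') Γ(Y', V') := (g'.appLE W' V' (fun y hy => hy.2)).hom.toAlgebra
  letI : Algebra Γ(Y, V) Γ(Y', V') := (gY.appLE V V' (fun y hy => hy.1)).hom.toAlgebra
  letI : Algebra Γ(Y', V') Γ(X', U') := (f'.appLE V' U' eUV).hom.toAlgebra
  letI : Algebra Γ(S', W') Γ(X', U') := ((f' ≫ g').appLE W' U' (fun y hy => hy.2)).hom.toAlgebra
  letI : Algebra Γ(X, U) Γ(X', U') := (gX.appLE U U' (fun y hy => hy.1)).hom.toAlgebra
  letI : Algebra Γ(S, W) Γ(Y', V') := ((g'.appLE W' V' (fun y hy => hy.2)).hom.comp (h.appLE W W' hWW).hom).toAlgebra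
  letI : Algebra Γ(S, W) Γ(X', U') :=
    (((f' ≫ g').appLE W' U' (fun y hy => hy.2)).hom.comp (h.appLE W W' hWW).hom).toAlgebra
  letI : Algebra Γ(Y, V) Γ(X', U') :=
    ((gX.appLE U U' (fun y hy => hy.1)).hom.comp (f.appLE V U hUV).hom).toAlgebra
  haveI : IsScalarTower Γ(S, W) Γ(S', W') Γ(Y', V') := IsScalarTower.of_algebraMap_eq fun _ => rfl
  haveI : IsScalarTower Γ(S, W) Γ(S', W') Γ(X', U') := IsScalarTower.of_algebraMap_eq fun _ => rfl
  haveI : IsScalarTower Γ(Y, V) Γ(X, U) Γ(X', U') := IsScalarTower.of_algebraMap_eq fun _ => rfl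
  haveI : IsScalarTower Γ(S, W) Γ(Y, V) Γ(Y', V') :=
    IsScalarTower.of_algebraMap_eq' (congrArg CommRingCat.Hom.hom hA.w).symm
  haveI : IsScalarTower Γ(S, W) Γ(X, U) Γ(X', U') :=
    IsScalarTower.of_algebraMap_eq' (congrArg CommRingCat.Hom.hom hB.w).symm
  haveI : IsScalarTower Γ(S, W) Γ(Y, V) Γ(X, U) :=
    IsScalarTower.of_algebraMap_eq' (congrArg CommRingCat.Hom.hom (Scheme.Hom.appLE_comp_appLE f g W V U hVW hUV)).symm
  haveI : IsScalarTower Γ(S', W') Γ(Y', V') Γ(X', U') := IsScalarTower.of_algebraMap_eq'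
    (congrArg CommRingCat.Hom.hom (Scheme.Hom.appLE_comp_appLE f' g' W' V' U' (fun y hy => hy.2) eUV)).symm
  haveI : IsScalarTower Γ(Y, V) Γ(Y', V') Γ(X', U') := by
    refine IsScalarTower.of_algebraMap_eq' ?_
    show (gX.appLE U U' (fun y hy => hy.1)).hom.comp (f.appLE V U hUV).hom =
      (f'.appLE V' U' eUV).hom.comp (gY.appLE V V' (fun y hy => hy.1)).hom
    rw [← CommRingCat.hom_comp, ← CommRingCat.hom_comp, Scheme.Hom.appLE_comp_appLE, Scheme.Hom.appLE_comp_appLE]
    simp only [w]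
  haveI : Algebra.IsPushout Γ(S, W) Γ(S', W') Γ(Y, V) Γ(Y', V') :=
    Algebra.IsPushout.symm (CommRingCat.isPushout_iff_isPushout.mp hA)
  haveI : Algebra.IsPushout Γ(S, W) Γ(S', W') Γ(X, U) Γ(X', U') :=
    Algebra.IsPushout.symm (CommRingCat.isPushout_iff_isPushout.mp hB)
  haveI : Module.Flat Γ(S, W) Γ(Y, V) :=
    HasRingHomProperty.appLE @Flat g inferInstance ⟨W, hW⟩ ⟨V, hV⟩ hVW
  haveI : Module.Flat Γ(S, W) Γ(X, U) :=
    HasRingHomProperty.appLE @Flat (f ≫ g) inferInstance ⟨W, hW⟩ ⟨U, hU⟩ hUW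
  haveI : Algebra.FinitePresentation Γ(S, W) Γ(Y, V) :=
    HasRingHomProperty.appLE @LocallyOfFinitePresentation g inferInstance ⟨W, hW⟩ ⟨V, hV⟩ hVW
  haveI hfpB : Algebra.FinitePresentation Γ(S, W) Γ(X, U) :=
    HasRingHomProperty.appLE @LocallyOfFinitePresentation (f ≫ g) inferInstance ⟨W, hW⟩ ⟨U, hU⟩ hUW
  haveI : Algebra.FiniteType Γ(Y, V) Γ(X, U) :=
    Algebra.FiniteType.of_restrictScalars_finiteType Γ(S, W) Γ(Y, V) Γ(X, U)
  obtain ⟨n, π, hπ⟩ := Algebra.FiniteType.iff_quotient_mvPolynomial''.mp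
    (inferInstance : Algebra.FiniteType Γ(Y, V) Γ(X, U))
  obtain ⟨π', hπ', hiff⟩ := kAt_pres_baseChange (R := Γ(S, W)) (R' := Γ(S', W')) (A' := Γ(Y', V'))
    (B' := Γ(X', U')) π hπ
  haveI : Algebra.Smooth Γ(Y', V') (MvPolynomial (Fin n) Γ(Y', V')) := ⟨inferInstance, inferInstance⟩
  haveI : Algebra.Smooth Γ(Y, V) (MvPolynomial (Fin n) Γ(Y, V)) := ⟨inferInstance, inferInstance⟩
  rw [isKoszulAt_iff_kAt f' ⟨V', hV'⟩ ⟨U', hU'⟩ eUV (MvPolynomial (Fin n) Γ(Y', V')) π'.toRingHom hπ'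
      π'.comp_algebraMap x' hx',
    isKoszulAt_iff_kAt f ⟨V, hV⟩ ⟨U, hU⟩ hUV (MvPolynomial (Fin n) Γ(Y, V)) π.toRingHom hπ
      π.comp_algebraMap (gX x') hxU,
    hiff]
  have hp : ((hU'.primeIdealOf ⟨x', hx'⟩).asIdeal).comap (algebraMap Γ(X, U) Γ(X', U')) =
      (hU.primeIdealOf ⟨gX x', hxU⟩).asIdeal :=
    congrArg PrimeSpectrum.asIdeal (IsAffineOpen.comap_primeIdealOf_appLE U hU U' hU' (fun y hy => hy.1) hx')
  rw [hp]

end Scheme

end Groth.Agent.KoszulFib
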