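import Groth.Agent.KoszulFib.Local
import Mathlib.RingTheory.Flat.FaithfullyFlat.Algebra

/-!
# Koszul regularity of a flat quotient commutes with arbitrary base change
-/

set_option autoImplicit false
set_option linter.style.haveILetI false
universe u

namespace Groth.Agent.KoszulFib

open TensorProduct Groth.Agent.Wiebe Groth.Agent.KoszulLib

/-- Generation by an acyclic sequence is insensitive to faithfully flat extensions of local rings. -/
theorem kReg_iff_of_faithfullyFlat {P T T' : Type u} [CommRing P] [CommRing T] [CommRing T'] [Algebra T T']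
    [Module.FaithfullyFlat T T'] [IsLocalRing T'] (φ : P →+* T) (J : Ideal P)
    (hne : J.map ((algebraMap T T').comp φ) ≠ ⊤) :
    KReg (J.map ((algebraMap T T').comp φ)) ↔ KReg (J.map φ) := by
  constructor
  · intro h
    obtain ⟨n, f, hf, hspan, hac⟩ := h.exists_mem _ hne
    refine ⟨n, φ ∘ f, ?_, acyclic_descent T' hac⟩
    rw [← Ideal.comap_map_eq_self_of_faithfullyFlat (B := T') (J.map φ), Ideal.map_map, hspan,
      ← Ideal.comap_map_eq_self_of_faithfullyFlat (B := T') (Ideal.span (Set.range (φ ∘ f))), Ideal.map_span,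
      ← Set.range_comp]
    rfl
  · rintro ⟨n, f, hspan, hac⟩
    exact ⟨n, algebraMap T T' ∘ f, by rw [← Ideal.map_map, hspan, Ideal.map_span, ← Set.range_comp],
      acyclic_baseChange T' hac⟩

section

variable {R R' P P' : Type u} [CommRing R] [CommRing R'] [CommRing P] [CommRing P'] [Algebra R R'] [Algebra R P]
  [Algebra R' P'] [Algebra P P'] [Algebra R P'] [IsScalarTower R R' P'] [IsScalarTower R P P']

/-- A base change of a localisation receives the localisation flatly. -/
theorem flat_locBC [Algebra.IsPushout R R' P P'] (q' : PrimeSpectrum P')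
    [Algebra (R' ⊗[R] Localization.AtPrime (q'.asIdeal.comap (algebraMap P P'))) (Localization.AtPrime q'.asIdeal)]
    (h1 : ∀ a : R', algebraMap (R' ⊗[R] Localization.AtPrime (q'.asIdeal.comap (algebraMap P P')))
      (Localization.AtPrime q'.asIdeal) (a ⊗ₜ[R] 1) = algebraMap R' (Localization.AtPrime q'.asIdeal) a)
    (h2 : ∀ y : P, algebraMap (R' ⊗[R] Localization.AtPrime (q'.asIdeal.comap (algebraMap P P')))
      (Localization.AtPrime q'.asIdeal) ((1 : R') ⊗ₜ[R] algebraMap P _ y) =
        algebraMap P' (Localization.AtPrime q'.asIdeal) (algebraMap P P' y)) :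
    Module.Flat (R' ⊗[R] Localization.AtPrime (q'.asIdeal.comap (algebraMap P P')))
      (Localization.AtPrime q'.asIdeal) := by
  let S₀ := Localization.AtPrime (q'.asIdeal.comap (algebraMap P P'))
  let S := Localization.AtPrime q'.asIdeal
  let B := R' ⊗[R] S₀
  let σ : P' →+* B :=
    ((Algebra.TensorProduct.map (AlgHom.id R' R') (IsScalarTower.toAlgHom R P S₀)).toRingHom).comp
      (Algebra.IsPushout.equiv R R' P P').symm.toRingHom
  letI : Algebra P' B := σ.toAlgebra
  have hσ1 : ∀ a : R', σ (algebraMap R' P' a) = a ⊗ₜ[R] 1 := fun a => by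
    show Algebra.TensorProduct.map _ _ ((Algebra.IsPushout.equiv R R' P P').symm (algebraMap R' P' a)) = _
    rw [AlgEquiv.commutes, Algebra.TensorProduct.algebraMap_apply]
    simp
  have hσ2 : ∀ y : P, σ (algebraMap P P' y) = (1 : R') ⊗ₜ[R] algebraMap P S₀ y := fun y => by
    show Algebra.TensorProduct.map _ _ ((Algebra.IsPushout.equiv R R' P P').symm (algebraMap P P' y)) = _
    rw [Algebra.IsPushout.equiv_symm_algebraMap_right, Algebra.TensorProduct.map_tmul]
    rfl
  haveI : IsScalarTower P' B S := by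
    refine IsScalarTower.of_algebraMap_eq fun x => ?_
    show algebraMap P' S x = algebraMap B S (σ x)
    obtain ⟨z, rfl⟩ := (Algebra.IsPushout.equiv R R' P P').surjective x
    induction z with
    | zero => simp
    | tmul a y =>
      rw [show a ⊗ₜ[R] y = (a ⊗ₜ[R] (1 : P)) * ((1 : R') ⊗ₜ[R] y) by simp, map_mul, Algebra.IsPushout.equiv_tmul,
        Algebra.IsPushout.equiv_tmul]
      simp only [map_one, mul_one, one_mul, map_mul, hσ1, hσ2, ← IsScalarTower.algebraMap_apply R' P' S]
      exact (congrArg₂ (· * ·) (h1 a) (h2 y)).symm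
    | add a b ha hb => rw [map_add, map_add, map_add, ha, hb, map_add]
  haveI : Algebra.IsEpi P' B := by
    refine FibCrit.isEpi_tensor (fun a => ⟨1, isUnit_one, ?_, ?_⟩) (fun s => ?_)
    · exact ⟨1, by rw [map_one, map_one]⟩
    · exact ⟨algebraMap R' P' a, by rw [mul_one]; exact hσ1 a⟩
    · obtain ⟨⟨y, t⟩, hyt⟩ := IsLocalization.surj (q'.asIdeal.comap (algebraMap P P')).primeCompl s
      exact ⟨algebraMap P S₀ t, IsLocalization.map_units S₀ t, ⟨algebraMap P P' t, hσ2 t⟩,
        ⟨algebraMap P P' y, by rw [hyt]; exact hσ2 y⟩⟩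
  exact FibCrit.flat_of_isEpi (S := P')

/-- The property on the fibre is insensitive to base change. -/
theorem fib_baseChange_iff [Algebra.IsPushout R R' P P'] (J : Ideal P) (q' : PrimeSpectrum P')
    (hJq : J.map (algebraMap P P') ≤ q'.asIdeal) :
    Fib R' (J.map (algebraMap P P')) q' ↔ Fib R J ⟨q'.asIdeal.comap (algebraMap P P'), inferInstance⟩ := by
  let q : PrimeSpectrum P := ⟨q'.asIdeal.comap (algebraMap P P'), inferInstance⟩
  let p := q.asIdeal.comap (algebraMap R P)
  let p' := q'.asIdeal.comap (algebraMap R' P')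
  have hp : p = p'.comap (algebraMap R R') := by
    simp only [p, p', q, Ideal.comap_comap, ← IsScalarTower.algebraMap_eq]
  let S₀ := Localization.AtPrime q.asIdeal
  let S := Localization.AtPrime q'.asIdeal
  let lam : S₀ →+* S := Localization.localRingHom q.asIdeal q'.asIdeal (algebraMap P P') rfl
  letI : Algebra S₀ S := lam.toAlgebra
  have hlam : ∀ y : P, algebraMap S₀ S (algebraMap P S₀ y) = algebraMap P' S (algebraMap P P' y) :=
    fun y => Localization.localRingHom_to_map _ _ _ _ y
  haveI : IsScalarTower R S₀ S := IsScalarTower.of_algebraMap_eq fun a => by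
    rw [IsScalarTower.algebraMap_apply R P S₀, hlam, ← IsScalarTower.algebraMap_apply R P P',
      ← IsScalarTower.algebraMap_apply R P' S]
  let β : R' ⊗[R] S₀ →ₐ[R] S :=
    Algebra.TensorProduct.productMap (IsScalarTower.toAlgHom R R' S) (IsScalarTower.toAlgHom R S₀ S)
  letI : Algebra (R' ⊗[R] S₀) S := β.toRingHom.toAlgebra
  have hb1 : ∀ a : R', algebraMap (R' ⊗[R] S₀) S (a ⊗ₜ[R] 1) = algebraMap R' S a := fun a => by
    show β _ = _
    simp [β]
  haveI : Module.Flat (R' ⊗[R] S₀) S := flat_locBC (R := R) (R' := R') q' hb1 fun y => by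
    show β _ = _
    simp only [β, Algebra.TensorProduct.productMap_apply_tmul, map_one, one_mul]
    exact hlam y
  letI : Algebra S₀ (R' ⊗[R] S₀) := Algebra.TensorProduct.rightAlgebra
  haveI : IsScalarTower R' (R' ⊗[R] S₀) S := IsScalarTower.of_algebraMap_eq (R := R') (S := R' ⊗[R] S₀) (A := S)
    fun a => by rw [Algebra.TensorProduct.algebraMap_apply]; exact (hb1 _).symm
  haveI : IsScalarTower S₀ (R' ⊗[R] S₀) S := IsScalarTower.of_algebraMap_eq fun s => by
    show algebraMap S₀ S s = β ((1 : R') ⊗ₜ[R] s)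
    simp [β]
  letI : Algebra p.ResidueField p'.ResidueField :=
    (Ideal.ResidueField.map p p' (algebraMap R R') hp).toAlgebra
  haveI : IsScalarTower R p.ResidueField p'.ResidueField := IsScalarTower.of_algebraMap_eq fun a => by
    show algebraMap R _ a = Ideal.ResidueField.map p p' (algebraMap R R') hp (algebraMap R _ a)
    rw [Ideal.ResidueField.map_algebraMap, ← IsScalarTower.algebraMap_apply]
  letI : Algebra S₀ (FT R q) := Algebra.TensorProduct.rightAlgebra
  letI : Algebra S (FT R' q') := Algebra.TensorProduct.rightAlgebra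
  let ψ : FT R q →ₐ[R] FT R' q' := Algebra.TensorProduct.productMap
    ((Algebra.TensorProduct.includeLeft : p'.ResidueField →ₐ[R] FT R' q').comp
      (IsScalarTower.toAlgHom R p.ResidueField p'.ResidueField))
    (((Algebra.TensorProduct.includeRight : S →ₐ[R'] FT R' q').restrictScalars R).comp
      (IsScalarTower.toAlgHom R S₀ S))
  letI : Algebra (FT R q) (FT R' q') := ψ.toRingHom.toAlgebra
  have hk : ∀ k, algebraMap (FT R q) (FT R' q') (algebraMap p.ResidueField (FT R q) k) =
      algebraMap p'.ResidueField (FT R' q') (algebraMap p.ResidueField p'.ResidueField k) := fun k => by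
    show ψ (k ⊗ₜ[R] 1) = _
    simp [ψ]
    rfl
  have hs : ∀ s, algebraMap (FT R q) (FT R' q') (algebraMap S₀ (FT R q) s) =
      algebraMap S (FT R' q') (algebraMap S₀ S s) := fun s => by
    show ψ ((1 : p.ResidueField) ⊗ₜ[R] s) = _
    simp [ψ]
    rfl
  haveI : Module.Flat (FT R q) (FT R' q') :=
    FibCrit.flat_fibre (A₀ := R) (A := R') (S₀ := S₀) (S := S) (K₀ := p.ResidueField) (K := p'.ResidueField)
      (B := R' ⊗[R] S₀) hk hs
  have hcomp : (toFT R' q').comp (algebraMap P P') = (algebraMap (FT R q) (FT R' q')).comp (toFT R q) := by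
    ext y
    show locFT R' q' (algebraMap P' S (algebraMap P P' y)) = ψ ((1 : p.ResidueField) ⊗ₜ[R] algebraMap P S₀ y)
    rw [← hlam]
    exact (hs _).symm
  haveI hTloc : IsLocalRing (FT R q) := FT.isLocalRing R q
  haveI : IsLocalHom (algebraMap (FT R q) (FT R' q')) := by
    refine ⟨fun t ht => ?_⟩
    obtain ⟨s, rfl⟩ := (locFT_surjective_and_ker R q).1 t
    haveI : IsLocalHom (locFT R' q') := IsLocalHom.of_surjective _ (locFT_surjective_and_ker R' q').1
    have h1 : IsUnit (locFT R' q' (algebraMap S₀ S s)) := by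
      have := hs s
      rw [show locFT R' q' (algebraMap S₀ S s) = algebraMap (FT R q) (FT R' q') (locFT R q s) from this.symm]
      exact ht
    haveI : IsLocalHom lam := Localization.isLocalHom_localRingHom _ _ _ _
    exact (isUnit_of_map_unit lam s (isUnit_of_map_unit (locFT R' q') _ h1)).map _
  haveI : Module.FaithfullyFlat (FT R q) (FT R' q') := Module.FaithfullyFlat.of_flat_of_isLocalHom
  have hne : J.map ((algebraMap (FT R q) (FT R' q')).comp (toFT R q)) ≠ ⊤ := by
    rw [← hcomp, ← Ideal.map_map]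
    exact map_toFT_ne_top R' q' hJq
  show KReg _ ↔ KReg _
  rw [Ideal.map_map, hcomp]
  exact kReg_iff_of_faithfullyFlat (toFT R q) J hne

/-- Koszul regularity of a flat quotient commutes with base change. -/
theorem kAt_baseChange_iff [Algebra.FinitePresentation R P] [Module.Flat R P] [Algebra.IsPushout R R' P P']
    {J : Ideal P} (hJ : J.FG) [Module.Flat R (P ⧸ J)] [Module.Flat R' (P' ⧸ J.map (algebraMap P P'))]
    (q' : PrimeSpectrum P') :
    KAt (J.map (algebraMap P P')) q'.asIdeal ↔ KAt J (q'.asIdeal.comap (algebraMap P P')) := by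
  haveI : Algebra.FinitePresentation R' P' :=
    Algebra.FinitePresentation.equiv (Algebra.IsPushout.equiv R R' P P')
  haveI : Module.Flat R' P' := Module.Flat.of_linearEquiv (Algebra.IsPushout.equiv R R' P P').symm.toLinearEquiv
  by_cases hq : J.map (algebraMap P P') ≤ q'.asIdeal
  · rw [kAt_iff_fib (R := R') (hJ.map _) q' hq, fib_baseChange_iff (R := R) J q' hq,
      ← kAt_iff_fib (R := R) hJ ⟨q'.asIdeal.comap (algebraMap P P'), inferInstance⟩ (Ideal.map_le_iff_le_comap.mp hq)]
  · exact iff_of_true (kAt_of_not_le hq) (kAt_of_not_le fun h => hq (Ideal.map_le_iff_le_comap.mpr h))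

end

end Groth.Agent.KoszulFib
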