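import Groth.Agent.KoszulFib.Scheme
import Groth.Agent.SyntLib.CIMor
import Groth.Agent.SyntLib.Koszul
import Groth.Agent.SyntLib.Field
import Groth.Agent.SyntLib.AbsCI

/-!
# Koszul points over a field are the complete intersection points
-/

set_option autoImplicit false
set_option linter.style.haveILetI false
set_option backward.isDefEq.respectTransparency false

universe u

open CategoryTheory AlgebraicGeometry

namespace Groth.Agent.KoszulFib

/-- Koszul points can be read on an open subscheme. -/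
theorem isKoszulAt_of_comp_openImmersion {X' X Y : Scheme.{u}} (e : X' ⟶ X) [IsOpenImmersion e] (f : X ⟶ Y) {z : X'}
    (h : Synt.IsKoszulAt (e ≫ f) z) : Synt.IsKoszulAt f (e z) := by
  obtain ⟨W, P, i, π, hz, hlft, hreg, hsm, hfac⟩ := h
  let ε : W.toScheme ≅ (e ''ᵁ W).toScheme := e.isoImage W
  have hε : ε.inv ≫ W.ι ≫ e = (e ''ᵁ W).ι := e.isoImage_inv_ι W
  haveI := hlft
  haveI := hreg.1
  refine ⟨e ''ᵁ W, P, ε.inv ≫ i, π, ⟨z, hz, rfl⟩, ?_, ⟨inferInstance, fun w => ?_⟩, hsm, ?_⟩
  · rw [← hε, Category.assoc, Category.assoc]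
    infer_instance
  · exact (KoszulLib.isRegularImmersionAt_iso_comp ε.inv i w).2 (hreg.2 _)
  · rw [← hε, Category.assoc, Category.assoc, Category.assoc, hfac]

/-- A Koszul point has an open neighbourhood on which the morphism is Koszul everywhere. -/
theorem exists_koszul_nhd {X Y : Scheme.{u}} (f : X ⟶ Y) {x : X} (h : Synt.IsKoszulAt f x) :
    ∃ O : X.Opens, x ∈ O ∧ ∀ z : O.toScheme, Synt.IsKoszulAt (O.ι ≫ f) z := by
  obtain ⟨O, P, i, π, hxO, hft, hreg, hsm, hfac⟩ := h
  haveI := hft
  haveI := hreg.1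
  refine ⟨O, hxO, fun z => ⟨⊤, P, (⊤ : O.toScheme.Opens).ι ≫ i, π, trivial, inferInstance, ⟨inferInstance, fun w => ?_⟩,
    hsm, ?_⟩⟩
  · haveI : IsIso (⊤ : O.toScheme.Opens).ι := inferInstanceAs (IsIso (Scheme.topIso O.toScheme).hom)
    exact (KoszulLib.isRegularImmersionAt_iso_comp _ i w).2 (hreg.2 _)
  · rw [Category.assoc, hfac]

/-- Over a field, the Koszul points are the complete intersection points. -/
theorem isKoszulAt_field_iff {K : CommRingCat.{u}} (hK : IsField K) {X : Scheme.{u}} (p : X ⟶ Spec K)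
    [LocallyOfFiniteType p] (x : X) : Synt.IsKoszulAt p x ↔ Pi1.IsCompleteIntersection (X.presheaf.stalk x) := by
  letI : Field K := hK.toField
  constructor
  · intro h
    obtain ⟨O, hxO, hO⟩ := exists_koszul_nhd p h
    haveI : Flat (O.ι ≫ p) := inferInstanceAs (Flat (X := O.toScheme) (Y := Spec (CommRingCat.of K)) (O.ι ≫ p))
    have h1 := (SyntLib.synMor_field_iff hK (O.ι ≫ p)).mp (SyntLib.synMor_of_flat_of_koszul _ hO) ⟨x, hxO⟩
    haveI : Algebra.EssFiniteType K K := inferInstance
    obtain ⟨_, ⟨U, hU, rfl⟩, hxU, hUO⟩ :=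
      X.isBasis_affineOpens.exists_subset_of_mem_open (show x ∈ (O : Set X) from hxO) O.isOpen
    letI : Algebra K (X.presheaf.stalk x) :=
      ((Scheme.ΓSpecIso K).inv ≫ p.appLE ⊤ U le_top ≫ X.presheaf.germ U x hxU).hom.toAlgebra
    letI : Algebra K Γ(X, U) := ((Scheme.ΓSpecIso K).inv ≫ p.appLE ⊤ U le_top).hom.toAlgebra
    haveI : Algebra.FiniteType K Γ(X, U) :=
      (RingHom.finiteType_respectsIso.cancel_left_isIso (Scheme.ΓSpecIso K).inv (p.appLE ⊤ U le_top)).mpr
        (HasRingHomProperty.appLE @LocallyOfFiniteType p inferInstance ⟨⊤, isAffineOpen_top _⟩ ⟨U, hU⟩ le_top)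
    letI : Algebra Γ(X, U) (X.presheaf.stalk x) := (X.presheaf.germ U x hxU).hom.toAlgebra
    haveI : IsScalarTower K Γ(X, U) (X.presheaf.stalk x) := IsScalarTower.of_algebraMap_eq fun _ => rfl
    haveI : IsLocalization.AtPrime (X.presheaf.stalk x) (hU.primeIdealOf ⟨x, hxU⟩).asIdeal :=
      hU.isLocalization_stalk ⟨x, hxU⟩
    haveI : Algebra.EssFiniteType Γ(X, U) (X.presheaf.stalk x) :=
      Algebra.EssFiniteType.of_isLocalization _ (hU.primeIdealOf ⟨x, hxU⟩).asIdeal.primeCompl
    haveI : Algebra.EssFiniteType K (X.presheaf.stalk x) := Algebra.EssFiniteType.comp K Γ(X, U) _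
    exact (SyntLib.isCompleteIntersection_ringEquiv K (O.stalkIso ⟨x, hxO⟩).commRingCatIsoToRingEquiv.symm).mp h1
  · intro h
    obtain ⟨_, ⟨U, hU, rfl⟩, hxU, -⟩ := X.isBasis_affineOpens.exists_subset_of_mem_open (Set.mem_univ x) isOpen_univ
    letI : Algebra K Γ(X, U) := ((Scheme.ΓSpecIso K).inv ≫ p.appLE ⊤ U le_top).hom.toAlgebra
    haveI : Algebra.FiniteType K Γ(X, U) :=
      (RingHom.finiteType_respectsIso.cancel_left_isIso (Scheme.ΓSpecIso K).inv (p.appLE ⊤ U le_top)).mpr
        (HasRingHomProperty.appLE @LocallyOfFiniteType p inferInstance ⟨⊤, isAffineOpen_top _⟩ ⟨U, hU⟩ le_top)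
    let q := hU.primeIdealOf ⟨x, hxU⟩
    haveI : Algebra.EssFiniteType Γ(X, U) (Localization.AtPrime q.asIdeal) :=
      Algebra.EssFiniteType.of_isLocalization _ q.asIdeal.primeCompl
    haveI : Algebra.EssFiniteType K (Localization.AtPrime q.asIdeal) := Algebra.EssFiniteType.comp K Γ(X, U) _
    letI := X.presheaf.algebra_section_stalk (⟨x, hxU⟩ : U)
    haveI : IsLocalization.AtPrime (X.presheaf.stalk x) q.asIdeal := hU.isLocalization_stalk ⟨x, hxU⟩
    have hq : Pi1.IsCompleteIntersection (Localization.AtPrime q.asIdeal) :=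
      (SyntLib.isCompleteIntersection_ringEquiv K (S := Localization.AtPrime q.asIdeal)
        (IsLocalization.algEquiv q.asIdeal.primeCompl (Localization.AtPrime q.asIdeal) (X.presheaf.stalk x)).toRingEquiv).mp h
    obtain ⟨g, hg, hG⟩ := SyntLib.exists_away_isGlobalCI q.asIdeal ((SyntLib.isCIOver_iff_isCompleteIntersection (k := K)).mpr hq)
    let B := Localization.Away g
    haveI : Algebra.FiniteType K B := Algebra.FiniteType.trans (inferInstanceAs (Algebra.FiniteType K Γ(X, U)))
      (IsLocalization.finiteType_of_monoid_fg (Submonoid.powers g) B)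
    have hsyn : Synt.IsSyntomic K B :=
      (SyntLib.isSyntomic_iff_forall_isCompleteIntersection K B).mpr fun Q => by
        haveI : Algebra.EssFiniteType B (Localization.AtPrime Q.asIdeal) :=
          Algebra.EssFiniteType.of_isLocalization _ Q.asIdeal.primeCompl
        haveI : Algebra.EssFiniteType K (Localization.AtPrime Q.asIdeal) := Algebra.EssFiniteType.comp K B _
        exact SyntLib.isCIOver_iff_isCompleteIntersection.mp (SyntLib.isCIOver_of_isGlobalCI hG Q.asIdeal)
    let i : Spec (CommRingCat.of B) ⟶ X := Spec.map (CommRingCat.ofHom (algebraMap Γ(X, U) B)) ≫ hU.fromSpec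
    haveI : IsOpenImmersion (Spec.map (CommRingCat.ofHom (algebraMap Γ(X, U) B))) :=
      IsOpenImmersion.of_isLocalization g
    haveI : IsOpenImmersion hU.fromSpec := hU.isOpenImmersion_fromSpec
    have hi : i ≫ p = Spec.map (CommRingCat.ofHom (algebraMap K B)) := by
      rw [Category.assoc, ← (isAffineOpen_top _).SpecMap_appLE_fromSpec p hU (le_top : U ≤ p ⁻¹ᵁ ⊤),
        IsAffineOpen.fromSpec_top, Scheme.isoSpec_Spec_inv, ← Spec.map_comp, ← Spec.map_comp]
      congr 1
    obtain ⟨w, hw⟩ : ∃ w : Spec (CommRingCat.of B), i w = x := by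
      obtain ⟨w, hw⟩ := (PrimeSpectrum.localization_away_comap_range B g).ge hg
      refine ⟨w, ?_⟩
      show hU.fromSpec (PrimeSpectrum.comap (algebraMap Γ(X, U) B) w) = x
      rw [hw]
      exact hU.fromSpec_primeIdealOf ⟨x, hxU⟩
    have hSyn : SyntLib.SynMor (i ≫ p) := by
      rw [hi, HasRingHomProperty.Spec_iff (P := SyntLib.SynMor.{u})]
      exact SyntLib.syn_algebraMap.mpr hsyn
    rw [← hw]
    exact isKoszulAt_of_comp_openImmersion i p (SyntLib.isKoszulAt_of_synMor _ hSyn w)

end Groth.Agent.KoszulFib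

namespace Groth.Agent.KoszulFib

/-- Locally of finite type over a field is locally of finite presentation. -/
theorem lfp_of_field {X Y : Scheme.{u}} (f : X ⟶ Y) [IsLocallyNoetherian Y] [LocallyOfFiniteType f] :
    LocallyOfFinitePresentation f := by
  refine (HasRingHomProperty.iff_appLE (P := @LocallyOfFinitePresentation)).mpr fun V W e => ?_
  haveI : IsNoetherianRing Γ(Y, V) := IsLocallyNoetherian.component_noetherian V
  exact RingHom.FinitePresentation.of_finiteType.mp (f.finiteType_appLE V.2 W.2 e)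

end Groth.Agent.KoszulFib
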